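import Groth.Agent.CAlgN2.CompleteLocal
import Groth.Agent.N2Lib.Basic
import Groth.Agent.N2Poly.More
import Mathlib.RingTheory.Localization.Ideal

/-!
# Stability of the Nagata property under quotients, localisations and finite algebras
-/

universe u

namespace Groth.Agent.CAlgNagata

variable {R T : Type u} [CommRing R] [CommRing T]

/-- The target of a surjection from a Nagata ring is Nagata. -/
theorem isNagata_of_surjective (f : R →+* T) (hf : Function.Surjective f) (h : CAlg.IsNagata R) :
    CAlg.IsNagata T := by
  haveI := h.1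
  refine ⟨isNoetherianRing_of_surjective R T f hf, fun p _ => ?_⟩
  let g := (Ideal.Quotient.mk p).comp f
  have hker : RingHom.ker g = p.comap f := by
    ext x; simp [g, RingHom.mem_ker, Ideal.Quotient.eq_zero_iff_mem]
  let e : R ⧸ p.comap f ≃+* T ⧸ p := (Ideal.quotEquivOfEq hker).symm.trans
    (RingHom.quotientKerEquivOfSurjective (Ideal.Quotient.mk_surjective.comp hf))
  exact N2Poly.isN2_of_ringEquiv e (h.2 _)

/-- A finite algebra over a Nagata ring is Nagata. -/
theorem isNagata_of_finite [Algebra R T] [Module.Finite R T] (h : CAlg.IsNagata R) :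
    CAlg.IsNagata T := by
  haveI := h.1
  refine ⟨IsNoetherianRing.of_finite R T, fun p _ => ?_⟩
  haveI : Module.Finite (R ⧸ p.comap (algebraMap R T)) (T ⧸ p) :=
    Module.Finite.of_restrictScalars_finite R _ _
  exact CAlgN2.isN2_of_finite (R ⧸ p.comap (algebraMap R T)) (T ⧸ p)
    Ideal.algebraMap_quotient_injective (h.2 _)

/-- A localisation of a Nagata ring is Nagata. -/
theorem isNagata_localization (M : Submonoid R) [Algebra R T] [IsLocalization M T]
    (h : CAlg.IsNagata R) : CAlg.IsNagata T := by
  haveI := h.1
  refine ⟨IsLocalization.isNoetherianRing M T h.1, fun p hp => ?_⟩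
  let q := p.comap (algebraMap R T)
  haveI : IsLocalization (M.map (Ideal.Quotient.mk q)) (T ⧸ p) :=
    IsLocalization.of_surjective M (S := T) (f := Ideal.Quotient.mk q) Ideal.Quotient.mk_surjective
      (Ideal.Quotient.mk p) Ideal.Quotient.mk_surjective rfl (by
        rw [Ideal.mk_ker, Ideal.mk_ker, IsLocalization.map_comap M])
  exact N2Lib.isN2_of_isLocalization (M.map (Ideal.Quotient.mk q)) (T ⧸ p) (h.2 q)

end Groth.Agent.CAlgNagata
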