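import Groth.Agent.CAlgNagata.Witness
import Mathlib.RingTheory.Ideal.GoingUp

/-!
# Gluing local finiteness of integral closures
-/

universe u

open Polynomial

namespace Groth.Agent.CAlgNagata

/-- Clearing denominators: `c ^ k • z` is integral over `T` if `z` is integral over `S ⊆ T[1/c]`. -/
lemma exists_pow_mul_integral {T S L : Type u} [CommRing T] [CommRing S] [CommRing L] [Algebra T L]
    [Algebra S L] (c : T)
    (hS : ∀ s : S, ∃ (k : ℕ) (t : T), algebraMap T L c ^ k * algebraMap S L s = algebraMap T L t)
    {z : L} (hz : IsIntegral S z) : ∃ k : ℕ, IsIntegral T (algebraMap T L c ^ k * z) := by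
  rcases subsingleton_or_nontrivial L with hL | hL
  · refine ⟨0, ?_⟩
    rw [Subsingleton.elim (algebraMap T L c ^ 0 * z) 0]
    exact isIntegral_zero
  obtain ⟨P, hP, hPz⟩ := hz
  choose k t ht using hS
  let N := (P.support.sup fun i => k (P.coeff i))
  let d := algebraMap T L c ^ N
  let Q := (P.map (algebraMap S L)).scaleRoots d
  have hQ : Q.Monic := (monic_scaleRoots_iff _).2 (hP.map _)
  have hQl : Q ∈ Polynomial.lifts (algebraMap T L) := by
    rw [Polynomial.lifts_iff_coeff_lifts]
    intro i
    have hn : (P.map (algebraMap S L)).natDegree = P.natDegree := hP.natDegree_map _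
    rcases eq_or_ne i P.natDegree with rfl | hne
    · refine ⟨1, ?_⟩
      simp [Q, coeff_scaleRoots, hn, hP.coeff_natDegree]
    by_cases hc : P.coeff i = 0
    · exact ⟨0, by simp [Q, coeff_scaleRoots, hc]⟩
    have hi : i < P.natDegree := lt_of_le_of_ne (le_natDegree_of_ne_zero hc) hne
    have hk : k (P.coeff i) ≤ N := Finset.le_sup (f := fun i => k (P.coeff i)) (mem_support_iff.2 hc)
    have hle : k (P.coeff i) ≤ N * (P.natDegree - i) :=
      hk.trans (Nat.le_mul_of_pos_right _ (by omega))
    refine ⟨t (P.coeff i) * c ^ (N * (P.natDegree - i) - k (P.coeff i)), ?_⟩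
    simp only [Q, d, coeff_scaleRoots, coeff_map, hn, map_mul, map_pow, ← ht]
    rw [mul_assoc, mul_left_comm, ← pow_add, ← pow_mul, Nat.add_sub_cancel' hle]
  obtain ⟨Q', hQ', -, hmon⟩ := Polynomial.lifts_and_natDegree_eq_and_monic hQl hQ
  refine ⟨N, Q', hmon, ?_⟩
  rw [eval₂_eq_eval_map, hQ']
  have := scaleRoots_eval₂_eq_zero (RingHom.id L) (s := d) (p := P.map (algebraMap S L)) (r := z)
    (by rw [eval₂_map, RingHom.id_comp]; exact hPz)
  exact this

/-- Local finiteness at all primes over `m` of a finite extension gives it at `m`. -/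
lemma locFin_of_primes_over {S S' L : Type u} [CommRing S] [CommRing S'] [CommRing L] [Algebra S S']
    [Module.Finite S S'] [IsNoetherianRing S'] [Algebra S L] [Algebra S' L] [IsScalarTower S S' L]
    (m : Ideal S) [m.IsPrime]
    (h : ∀ P : Ideal S', P.IsPrime → P.comap (algebraMap S S') = m → LocFin S' P L) :
    LocFin S m L := by
  classical
  haveI : Algebra.IsIntegral S S' := Algebra.IsIntegral.of_finite S S'
  let Ps := {P : Ideal S' | P.IsPrime ∧ P.comap (algebraMap S S') = m}
  have hfin : Ps.Finite := by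
    refine (Ideal.finite_minimalPrimes_of_isNoetherianRing S' (m.map (algebraMap S S'))).subset ?_
    rintro P ⟨hP, hPm⟩
    refine ⟨⟨hP, Ideal.map_le_iff_le_comap.2 hPm.ge⟩, fun q ⟨hq, hmq⟩ hqP => ?_⟩
    by_contra hne
    have := haveI := hq; Ideal.IsIntegral.comap_lt_comap (R := S) (I := q) (J := P)
      (lt_of_le_not_ge hqP hne)
    rw [hPm] at this
    exact this.not_ge (Ideal.map_le_iff_le_comap.1 hmq)
  haveI := hfin.fintype
  choose G hG hGz using fun P : Ps => h P.1 P.2.1 P.2.2
  obtain ⟨B, hB⟩ := Module.Finite.fg_top (R := S) (M := S')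
  let G' : Finset L := B ×ˢ (Finset.univ.biUnion G) |>.image fun bg => bg.1 • bg.2
  haveI : Algebra.IsIntegral S S' := Algebra.IsIntegral.of_finite S S'
  refine ⟨G', fun g hg => ?_, fun z hz => ?_⟩
  · obtain ⟨⟨b, g⟩, hbg, rfl⟩ := Finset.mem_image.1 hg
    obtain ⟨P, -, hgP⟩ := Finset.mem_biUnion.1 (Finset.mem_product.1 hbg).2
    show IsIntegral S (b • g)
    rw [Algebra.smul_def]
    exact isIntegral_trans _ ((isIntegral_algebraMap (x := b)).mul (hG P g hgP))
  · let N := Submodule.span S (G' : Set L)
    have hN : ∀ (s : S') (y : L), y ∈ N → s • y ∈ N := by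
      have hgen : ∀ (s : S'), ∀ g ∈ Finset.univ.biUnion G, s • g ∈ N := fun s g hg => by
        have hs : s ∈ Submodule.span S (B : Set S') := hB ▸ Submodule.mem_top
        induction hs using Submodule.span_induction with
        | mem b hb =>
          exact Submodule.subset_span (Finset.mem_coe.2 (Finset.mem_image.2
            ⟨(b, g), Finset.mem_product.2 ⟨hb, hg⟩, rfl⟩))
        | zero => simp
        | add a b _ _ ha hb => rw [add_smul]; exact N.add_mem ha hb
        | smul c a _ ha => rw [smul_assoc]; exact N.smul_mem c ha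
      intro s y hy
      induction hy using Submodule.span_induction with
      | mem y hy =>
        obtain ⟨⟨b, g⟩, hbg, rfl⟩ := Finset.mem_image.1 (Finset.mem_coe.1 hy)
        show s • b • g ∈ N
        rw [← mul_smul]
        exact hgen _ g (Finset.mem_product.1 hbg).2
      | zero => simp
      | add a b _ _ ha hb => rw [smul_add]; exact N.add_mem ha hb
      | smul c a _ ha => rw [smul_comm]; exact N.smul_mem c ha
    let J : Ideal S' :=
      { carrier := {s | s • z ∈ N}
        zero_mem' := by simp
        add_mem' := fun {a b} (ha : a • z ∈ N) (hb : b • z ∈ N) => by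
          show (a + b) • z ∈ N
          rw [add_smul]; exact N.add_mem ha hb
        smul_mem' := fun c a (ha : a • z ∈ N) => by
          show (c • a) • z ∈ N
          rw [smul_eq_mul, mul_smul]; exact hN c _ ha }
    by_contra hno
    simp only [not_exists, not_and] at hno
    have hJ : J.comap (algebraMap S S') ≤ m := fun s hs => by_contra fun hsm => hno s hsm (by
      have : algebraMap S S' s • z ∈ N := hs
      rwa [algebraMap_smul] at this)
    obtain ⟨P, hJP, hP, hPm⟩ := Ideal.exists_ideal_over_prime_of_isIntegral m J hJ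
    obtain ⟨s, hs, hsz⟩ := hGz ⟨P, hP, hPm⟩ z hz.tower_top
    refine hs (hJP ?_)
    show s • z ∈ N
    refine (?_ : ∀ y ∈ Submodule.span S' (G ⟨P, hP, hPm⟩ : Set L), y ∈ N) _ hsz
    intro y hy
    induction hy using Submodule.span_induction with
    | mem y hy =>
      have h1 : (1 : S') ∈ Submodule.span S (B : Set S') := hB ▸ Submodule.mem_top
      have : ∀ t ∈ Submodule.span S (B : Set S'), t • y ∈ N := by
        intro t ht
        induction ht using Submodule.span_induction with
        | mem b hb =>
          exact Submodule.subset_span (Finset.mem_coe.2 (Finset.mem_image.2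
            ⟨(b, y), Finset.mem_product.2 ⟨hb, Finset.mem_biUnion.2 ⟨_, Finset.mem_univ _, hy⟩⟩, rfl⟩))
        | zero => simp
        | add a b _ _ ha hb => rw [add_smul]; exact N.add_mem ha hb
        | smul c a _ ha => rw [smul_assoc]; exact N.smul_mem c ha
      simpa using this 1 h1
    | zero => exact N.zero_mem
    | add a b _ _ ha hb => exact N.add_mem ha hb
    | smul c a _ ha => exact hN c a ha

/-- Local finiteness descends along an injection of algebras. -/
lemma locFin_of_injective {S L L' : Type u} [CommRing S] [IsNoetherianRing S] [CommRing L] [CommRing L']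
    [Algebra S L] [Algebra S L'] (m : Ideal S) (φ : L →ₐ[S] L') (hφ : Function.Injective φ)
    (h : LocFin S m L') : LocFin S m L := by
  obtain ⟨G, hG, hGz⟩ := h
  let N := Submodule.span S (G : Set L')
  haveI : Module.Finite S N := Module.Finite.iff_fg.2 ⟨G, rfl⟩
  let ι : (N.comap φ.toLinearMap) →ₗ[S] N :=
    (φ.toLinearMap.comp (N.comap φ.toLinearMap).subtype).codRestrict N fun z => z.2
  have hfin : Module.Finite S (N.comap φ.toLinearMap) :=
    Module.Finite.of_injective ι fun a b e => Subtype.ext (hφ (congrArg Subtype.val e))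
  obtain ⟨G', hG'⟩ := Module.Finite.iff_fg.1 hfin
  refine ⟨G', fun g hg => ?_, fun z hz => ?_⟩
  · have hgN : φ g ∈ N := by
      have : g ∈ N.comap φ.toLinearMap := hG' ▸ Submodule.subset_span hg
      exact this
    exact (isIntegral_algHom_iff φ hφ).1
      (Submodule.span_le.2 (fun y hy => hG y hy) hgN :
        φ g ∈ Subalgebra.toSubmodule (integralClosure S L'))
  · obtain ⟨s, hs, hsz⟩ := hGz (φ z) ((isIntegral_algHom_iff φ hφ).2 hz)
    refine ⟨s, hs, hG' ▸ ?_⟩
    show φ (s • z) ∈ N
    rwa [map_smul]

/-- Local finiteness passes to a ring between `T` and `T[1/c]`. -/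
lemma locFin_of_away {T S L : Type u} [CommRing T] [CommRing S] [CommRing L] [Algebra T S]
    [Algebra T L] [Algebra S L] [IsScalarTower T S L] (m : Ideal S) [m.IsPrime] (c : T)
    (hc : algebraMap T S c ∉ m)
    (hS : ∀ s : S, ∃ (k : ℕ) (t : T), algebraMap T L c ^ k * algebraMap S L s = algebraMap T L t)
    (h : LocFin T (m.comap (algebraMap T S)) L) : LocFin S m L := by
  obtain ⟨G, hG, hGz⟩ := h
  refine ⟨G, fun g hg => (hG g hg).tower_top, fun z hz => ?_⟩
  obtain ⟨k, hk⟩ := exists_pow_mul_integral c hS hz
  obtain ⟨t, ht, htz⟩ := hGz _ hk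
  refine ⟨algebraMap T S (t * c ^ k), fun hm => ?_, ?_⟩
  · rw [map_mul, map_pow] at hm
    exact ((inferInstance : m.IsPrime).mem_or_mem hm).elim ht
      (fun h => hc ((inferInstance : m.IsPrime).mem_of_pow_mem k h))
  · refine Submodule.span_le_restrictScalars T S _ ?_
    show algebraMap T S (t * c ^ k) • z ∈ Submodule.span T (G : Set L)
    rwa [algebraMap_smul, mul_smul, Algebra.smul_def (c ^ k), map_pow]

end Groth.Agent.CAlgNagata
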