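import Groth.Agent.N2Lib.Basic
import Groth.Agent.RegLocus.LocalGeneric
import Groth.Agent.CAlgNagata.Glue
import Mathlib.RingTheory.Localization.AsSubring

/-!
# The criterion for N-1
-/

universe u

namespace Groth.Agent.CAlgNagata

variable (R : Type u) [CommRing R] [IsDomain R] [IsNoetherianRing R]

/-- An N-1 domain is normal after inverting one element. -/
theorem exists_normal_away_of_isN1 (h : CAlg.IsN1 R) :
    ∃ f : R, f ≠ 0 ∧ IsIntegrallyClosed (Localization.Away f) := by
  classical
  haveI : Module.Finite R (integralClosure R (FractionRing R)) := h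
  obtain ⟨G, hG⟩ := Module.Finite.fg_top (R := R) (M := integralClosure R (FractionRing R))
  choose a b hb hab using fun g : integralClosure R (FractionRing R) =>
    IsFractionRing.div_surjective R (g : FractionRing R)
  let f := ∏ g ∈ G, b g
  have hf0 : f ≠ 0 := Finset.prod_ne_zero_iff.2 fun g _ => nonZeroDivisors.ne_zero (hb g)
  refine ⟨f, hf0, ?_⟩
  have hle : Submonoid.powers f ≤ nonZeroDivisors R :=
    powers_le_nonZeroDivisors_of_noZeroDivisors hf0
  let A := Localization.subalgebra.ofField (FractionRing R) (Submonoid.powers f) hle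
  haveI : IsLocalization.Away f A :=
    Localization.subalgebra.isLocalization_ofField (FractionRing R) (Submonoid.powers f) hle
  haveI : IsIntegrallyClosed A := (isIntegrallyClosed_iff (FractionRing R)).2 fun {z} hz => by
    obtain ⟨m, hm⟩ := IsIntegral.exists_multiple_integral_of_isLocalization (S := FractionRing R)
      (Submonoid.powers f) (Rₘ := A) z hz
    have key : ∀ y : integralClosure R (FractionRing R),
        algebraMap R (FractionRing R) f * (y : FractionRing R) ∈ A := by
      intro y
      have hy : y ∈ Submodule.span R (G : Set (integralClosure R (FractionRing R))) :=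
        hG ▸ Submodule.mem_top
      induction hy using Submodule.span_induction with
      | mem g hg =>
        obtain ⟨c, hc⟩ := Finset.dvd_prod_of_mem b (Finset.mem_coe.1 hg)
        have : algebraMap R (FractionRing R) f * (g : FractionRing R) =
            algebraMap R (FractionRing R) (c * a g) := by
          have hb' : algebraMap R (FractionRing R) (b g) ≠ 0 :=
            (map_ne_zero_iff _ (IsFractionRing.injective R _)).2 (nonZeroDivisors.ne_zero (hb g))
          rw [← hab g, show f = b g * c from hc, map_mul, map_mul]
          field_simp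
        rw [this]
        exact A.algebraMap_mem _
      | zero => simp
      | add u v _ _ hu hv => rw [Subalgebra.coe_add, mul_add]; exact add_mem hu hv
      | smul r u _ hu =>
        rw [SetLike.val_smul, Algebra.smul_def, mul_left_comm]
        exact mul_mem (A.algebraMap_mem r) hu
    have h1 := key ⟨m • z, hm⟩
    obtain ⟨n, hn⟩ : ∃ n : ℕ, f ^ n = m.1 := m.2
    have hu : IsUnit (algebraMap R A (f ^ (n + 1))) :=
      IsLocalization.map_units A (⟨f ^ (n + 1), n + 1, rfl⟩ : Submonoid.powers f)
    obtain ⟨v, hv⟩ := hu.exists_right_inv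
    refine ⟨v * ⟨_, h1⟩, ?_⟩
    show (v : FractionRing R) * (algebraMap R (FractionRing R) f * (m • z)) = z
    have hv' := congrArg (fun w : A => (w : FractionRing R)) hv
    simp only [Subalgebra.coe_mul, Subalgebra.coe_one] at hv'
    rw [show ((algebraMap R A (f ^ (n + 1)) : A) : FractionRing R) =
      algebraMap R (FractionRing R) (f ^ (n + 1)) from rfl, map_pow] at hv'
    rw [Submonoid.smul_def, Algebra.smul_def, ← hn, map_pow]
    linear_combination z * hv'
  exact IsIntegrallyClosed.of_equiv
    (IsLocalization.algEquiv (Submonoid.powers f) A (Localization.Away f)).toRingEquiv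

omit [IsNoetherianRing R] in
lemma locFin_of_isN1 (m : Ideal R) [m.IsPrime] (A : Type u) [CommRing A] [IsDomain A] [Algebra R A]
    [IsLocalization.AtPrime A m] [IsNoetherianRing R] (h : CAlg.IsN1 A) : LocFin R m (FractionRing R) := by
  haveI := N2Lib.isFractionRing_of_isLocalization (R := R) m.primeCompl A
  haveI := N2Lib.finite_integralClosure_of_isN1 h (FractionRing A)
  exact locFin_of_injective m (FractionRing.algEquiv R (FractionRing A)).toAlgHom
    (FractionRing.algEquiv R (FractionRing A)).injective (locFin_of_finite m A (FractionRing A))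

/-- Stacks 0332: N-1 is local given normality after inverting one element. -/
theorem isN1_of_normal_away_of_local {f : R} (hf0 : f ≠ 0) (hf : IsIntegrallyClosed (Localization.Away f))
    (hloc : ∀ (m : Ideal R) [m.IsMaximal], CAlg.IsN1 (Localization.AtPrime m)) : CAlg.IsN1 R := by
  classical
  let K := FractionRing R
  have hle : Submonoid.powers f ≤ nonZeroDivisors R := powers_le_nonZeroDivisors_of_noZeroDivisors hf0
  let A := Localization.subalgebra.ofField K (Submonoid.powers f) hle
  haveI : IsLocalization.Away f A := Localization.subalgebra.isLocalization_ofField K _ hle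
  haveI : IsIntegrallyClosed A := IsIntegrallyClosed.of_equiv
    (IsLocalization.algEquiv (Submonoid.powers f) (Localization.Away f) A).toRingEquiv
  refine Module.Finite.iff_fg.2 (RegLocus.fg_of_local_generic f ?_
    (Subalgebra.toSubmodule (integralClosure R K))
    ⟨Submodule.span R {1}, ?_, Submodule.fg_span_singleton _, fun z hz => ?_⟩ fun m hm => ?_)
  · intro u v h
    simp only [Algebra.smul_def] at h
    exact mul_left_cancel₀ ((map_ne_zero_iff _ (IsFractionRing.injective R K)).2 hf0) h
  · rw [Submodule.span_singleton_le_iff_mem]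
    exact isIntegral_one
  · obtain ⟨w, hw⟩ := IsIntegrallyClosed.isIntegral_iff.1 (IsIntegral.tower_top (A := A) hz)
    obtain ⟨⟨r, ⟨-, k, rfl⟩⟩, hr⟩ := IsLocalization.surj (Submonoid.powers f) w
    refine ⟨k, Submodule.mem_span_singleton.2 ⟨r, ?_⟩⟩
    have := congrArg (algebraMap A K) hr
    rw [map_mul, ← IsScalarTower.algebraMap_apply, ← IsScalarTower.algebraMap_apply, hw] at this
    rw [Algebra.smul_def, Algebra.smul_def, mul_one]
    linear_combination -this
  · haveI := hm
    obtain ⟨G, hG, hGz⟩ := locFin_of_isN1 R m (Localization.AtPrime m) (hloc m)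
    exact ⟨Submodule.span R (G : Set K), Submodule.span_le.2 fun g hg => hG g hg, ⟨G, rfl⟩, hGz⟩

/-- Stacks 0332. -/
theorem isN1_iff : CAlg.IsN1 R ↔ ((∃ f : R, f ≠ 0 ∧ IsIntegrallyClosed (Localization.Away f)) ∧
    ∀ (m : Ideal R) [m.IsMaximal], CAlg.IsN1 (Localization.AtPrime m)) :=
  ⟨fun h => ⟨exists_normal_away_of_isN1 R h,
    fun m _ => N2Lib.isN1_of_isLocalization m.primeCompl _ h⟩,
    fun ⟨⟨_, hf0, hf⟩, hloc⟩ => isN1_of_normal_away_of_local R hf0 hf hloc⟩

end Groth.Agent.CAlgNagata
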