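import Groth.Agent.CAlgNagata.Glue
import Groth.Agent.RegLocus.LocalGeneric
import Mathlib.RingTheory.Polynomial.Quotient
import Mathlib.FieldTheory.SplittingField.Construction

/-!
# Finite type algebras over Nagata rings are Nagata
-/

universe u

open Polynomial

namespace Groth.Agent.CAlgNagata

/-- A Nagata domain is N-2. -/
theorem isN2_of_isNagata {R : Type u} [CommRing R] [IsDomain R] (h : CAlg.IsNagata R) : CAlg.IsN2 R :=
  N2Poly.isN2_of_ringEquiv (RingEquiv.quotientBot R) (h.2 ⊥)

section Birational

variable {R : Type u} [CommRing R] [IsDomain R] [IsIntegrallyClosed R] {K : Type u} [Field K]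
  [Algebra R K] [IsFractionRing R K]

/-- A version of `locFin_of_mem` along an equality of subalgebras. -/
lemma locFin_of_mem' (hN : CAlg.IsNagata R) (x : K) (U : Subalgebra R K)
    (hU : U = Algebra.adjoin R ({x} : Set K)) (m : Ideal U) [m.IsPrime]
    (hxm : ∀ h : x ∈ U, (⟨x, h⟩ : U) ∈ m) : LocFin U m K := by
  subst hU
  exact locFin_of_mem x m hN (hxm _)

omit [IsDomain R] [IsIntegrallyClosed R] [IsFractionRing R K] in
/-- Elements of `R[x]` times powers of `c` lie in `R[c x]`. -/
lemma exists_pow_mul_mem (c : R) (x : K) {V : Subalgebra R K} (hV : algebraMap R K c * x ∈ V) {s : K}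
    (hs : s ∈ Algebra.adjoin R ({x} : Set K)) : ∃ k : ℕ, algebraMap R K c ^ k * s ∈ V := by
  induction hs using Algebra.adjoin_induction with
  | mem y hy =>
    rw [Set.mem_singleton_iff] at hy
    exact ⟨1, by rwa [pow_one, hy]⟩
  | algebraMap r => exact ⟨0, by rw [pow_zero, one_mul]; exact V.algebraMap_mem r⟩
  | add a b _ _ ha hb =>
    obtain ⟨k, hk⟩ := ha
    obtain ⟨l, hl⟩ := hb
    refine ⟨k + l, ?_⟩
    rw [show algebraMap R K c ^ (k + l) * (a + b) = algebraMap R K c ^ l * (algebraMap R K c ^ k * a) +
      algebraMap R K c ^ k * (algebraMap R K c ^ l * b) by ring]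
    exact add_mem (mul_mem (pow_mem (V.algebraMap_mem c) _) hk)
      (mul_mem (pow_mem (V.algebraMap_mem c) _) hl)
  | mul a b _ _ ha hb =>
    obtain ⟨k, hk⟩ := ha
    obtain ⟨l, hl⟩ := hb
    refine ⟨k + l, ?_⟩
    rw [show algebraMap R K c ^ (k + l) * (a * b) = (algebraMap R K c ^ k * a) *
      (algebraMap R K c ^ l * b) by ring]
    exact mul_mem hk hl

/-- Local finiteness when a monic polynomial of `x` lies in the prime. -/
lemma locFin_of_monic (hN : CAlg.IsNagata R) (y : K) (T : Subalgebra R K)
    (hT : T = Algebra.adjoin R ({y} : Set K)) (m : Ideal T) [m.IsPrime] (g : R[X]) (hg : g.Monic)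
    (hgy : ∀ h : y ∈ T, aeval (⟨y, h⟩ : T) g ∈ m) : LocFin T m K := by
  haveI := hN.1
  have hyT : y ∈ T := hT ▸ Algebra.self_mem_adjoin_singleton R y
  let L := (g.map (algebraMap R K)).SplittingField
  haveI : IsScalarTower R K L := inferInstance
  haveI : Module.Finite R (integralClosure R L) :=
    N2Lib.finite_integralClosure_of_isN2 (isN2_of_isNagata hN) K L
  let R' := integralClosure R L
  have hN' : CAlg.IsNagata R' := isNagata_of_finite hN
  haveI : IsFractionRing R' L := integralClosure.isFractionRing_of_finite_extension K L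
  haveI : IsIntegrallyClosed R' := integralClosure.isIntegrallyClosedOfFiniteExtension K
  let φ : K →ₐ[R] L := IsScalarTower.toAlgHom R K L
  let y' : L := φ y
  let S' := Algebra.adjoin R' ({y'} : Set L)
  have hmem : ∀ t : K, t ∈ T → φ t ∈ S' := fun t ht => by
    have h1 : T ≤ (S'.restrictScalars R).comap φ := by
      rw [hT]
      refine Algebra.adjoin_le ?_
      rintro z rfl
      exact Algebra.self_mem_adjoin_singleton R' y'
    exact h1 ht
  let ι : T →+* S' := (φ.toRingHom.comp T.val.toRingHom).codRestrict S'.toSubring fun t => hmem t.1 t.2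
  letI : Algebra T S' := ι.toAlgebra
  haveI : IsScalarTower T S' L := IsScalarTower.of_algebraMap_eq fun t => rfl
  haveI : IsScalarTower R T S' := IsScalarTower.of_algebraMap_eq fun r => Subtype.ext (φ.commutes r).symm
  haveI : IsScalarTower R T L := IsScalarTower.of_algebraMap_eq fun r => (φ.commutes r).symm
  haveI : Algebra.FiniteType R' S' := (Subalgebra.fg_iff_finiteType _).1 ⟨{y'}, by simp [S']⟩
  haveI : Algebra.FiniteType R S' := Algebra.FiniteType.trans (S := R') inferInstance inferInstance
  haveI : Algebra.FiniteType T S' := Algebra.FiniteType.of_restrictScalars_finiteType R T S'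
  haveI : IsNoetherianRing S' := Algebra.FiniteType.isNoetherianRing R S'
  haveI : Algebra.IsIntegral T S' := ⟨fun s => by
    refine (isIntegral_algHom_iff (IsScalarTower.toAlgHom T S' L) Subtype.val_injective).1 ?_
    show IsIntegral T (s : L)
    refine Algebra.adjoin_induction (p := fun z _ => IsIntegral T z) ?_ (fun r => ?_)
      (fun _ _ _ _ => IsIntegral.add) (fun _ _ _ _ => IsIntegral.mul) s.2
    · rintro z rfl
      exact isIntegral_algebraMap (R := T) (A := L) (x := ⟨y, hyT⟩)
    · exact r.2.tower_top⟩
  haveI : Module.Finite T S' := Algebra.IsIntegral.finite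
  haveI : IsNoetherianRing T := by
    haveI : Algebra.FiniteType R T := (Subalgebra.fg_iff_finiteType _).1 ⟨{y}, by simp [hT]⟩
    exact Algebra.FiniteType.isNoetherianRing R T
  refine locFin_of_injective m (AlgHom.mk φ.toRingHom fun t => rfl : K →ₐ[T] L) φ.injective
    (locFin_of_primes_over (S' := S') m fun P hP hPm => ?_)
  -- find a root
  have hsplit := Polynomial.SplittingField.splits (g.map (algebraMap R K))
  have hprod := hsplit.eq_prod_roots
  rw [(hg.map _).map _ |>.leadingCoeff, map_one, one_mul, Polynomial.map_map,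
    ← IsScalarTower.algebraMap_eq] at hprod
  let rts := (g.map (algebraMap R L)).roots
  have hint : ∀ a ∈ rts, IsIntegral R a := fun a ha =>
    ⟨g, hg, by rw [← eval_map]; exact isRoot_of_mem_roots ha⟩
  let y0 : S' := ⟨y', Algebra.self_mem_adjoin_singleton R' y'⟩
  let fac : {a // a ∈ rts} → S' := fun a => y0 - algebraMap R' S' ⟨a.1, hint a.1 a.2⟩
  have hval : algebraMap T S' (aeval (⟨y, hyT⟩ : T) g) = (rts.attach.map fac).prod := by
    apply Subtype.val_injective
    rw [show ((rts.attach.map fac).prod : S').1 = ((rts.attach.map fac).map S'.val).prod from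
      map_multiset_prod S'.val _, Multiset.map_map]
    show algebraMap T L (aeval (⟨y, hyT⟩ : T) g) = _
    rw [← aeval_algebraMap_apply, aeval_def, ← eval_map]
    rw [hprod, eval_multiset_prod, Multiset.map_map]
    show (rts.map fun a => eval (algebraMap T L ⟨y, hyT⟩) (X - C a)).prod = _
    rw [← Multiset.attach_map_val' rts (fun a => eval (algebraMap T L ⟨y, hyT⟩) (X - C a))]
    refine congrArg Multiset.prod (Multiset.map_congr rfl fun a _ => ?_)
    simp only [eval_sub, eval_X, eval_C]
    rfl
  have hP' : algebraMap T S' (aeval (⟨y, hyT⟩ : T) g) ∈ P := by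
    have := hgy hyT
    rw [← hPm] at this
    exact this
  rw [hval] at hP'
  obtain ⟨w, hw, hwP⟩ := (hP.multiset_prod_mem_iff_exists_mem _).1 hP'
  obtain ⟨a, -, rfl⟩ := Multiset.mem_map.1 hw
  refine locFin_of_mem' hN' (y' - a.1) S' ?_ P fun h => hwP
  refine le_antisymm (Algebra.adjoin_le ?_) (Algebra.adjoin_le ?_)
  · rintro z rfl
    have h1 : y' - a.1 ∈ Algebra.adjoin R' ({y' - a.1} : Set L) := Algebra.self_mem_adjoin_singleton _ _
    have h2 : a.1 ∈ Algebra.adjoin R' ({y' - a.1} : Set L) :=
      Subalgebra.algebraMap_mem _ (⟨a.1, hint a.1 a.2⟩ : R')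
    show y' ∈ _
    simpa using add_mem h1 h2
  · rintro z rfl
    exact (fac a).2

/-- Local finiteness at maximal ideals of `R[x]`. -/
lemma locFin_of_isMaximal (hN : CAlg.IsNagata R) (x : K)
    (m : Ideal (Algebra.adjoin R ({x} : Set K))) [m.IsMaximal] :
    LocFin (Algebra.adjoin R ({x} : Set K)) m K := by
  classical
  let S := Algebra.adjoin R ({x} : Set K)
  let p0 := m.comap (algebraMap R S)
  have hsurj : Function.Surjective (aeval (gen x) : R[X] →ₐ[R] S) := by
    intro s
    obtain ⟨r, hr⟩ : s.1 ∈ (aeval x : R[X] →ₐ[R] K).range := by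
      rw [← Algebra.adjoin_singleton_eq_range_aeval]; exact s.2
    refine ⟨r, Subtype.ext ?_⟩
    rw [← hr]
    exact (aeval_algHom_apply S.val (gen x) r).symm
  let M := m.comap (aeval (gen x) : R[X] →ₐ[R] S)
  haveI : M.IsMaximal := Ideal.comap_isMaximal_of_surjective _ hsurj
  have hex : ∃ Q : R[X], Q ∈ M ∧ ∃ i, Q.coeff i ∉ p0 := by
    by_contra hno
    simp only [not_exists, not_and, not_not] at hno
    let M2 : Ideal R[X] := p0.comap (constantCoeff : R[X] →+* R)
    have hle : M ≤ M2 := fun Q hQ => hno Q hQ 0
    haveI : p0.IsPrime := Ideal.IsPrime.comap _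
    have heq : M = M2 := Ideal.IsMaximal.eq_of_le inferInstance
      (Ideal.IsPrime.comap (constantCoeff : R[X] →+* R) : M2.IsPrime).ne_top hle
    have hX : (X : R[X]) ∈ M := by
      rw [heq, Ideal.mem_comap, constantCoeff_apply, coeff_X_zero]
      exact p0.zero_mem
    have h1 := hno X hX 1
    rw [coeff_X_one] at h1
    exact (inferInstance : p0.IsPrime).ne_top ((Ideal.eq_top_iff_one _).2 h1)
  obtain ⟨n, ⟨Q, hQn, hQM, hQc⟩, hmin⟩ : ∃ n, (∃ Q : R[X], Q.natDegree = n ∧ Q ∈ M ∧ ∃ i, Q.coeff i ∉ p0) ∧
      ∀ k < n, ¬ ∃ Q : R[X], Q.natDegree = k ∧ Q ∈ M ∧ ∃ i, Q.coeff i ∉ p0 := by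
    obtain ⟨Q, hQ⟩ := hex
    have h : ∃ n, ∃ Q : R[X], Q.natDegree = n ∧ Q ∈ M ∧ ∃ i, Q.coeff i ∉ p0 := ⟨_, Q, rfl, hQ⟩
    exact ⟨Nat.find h, Nat.find_spec h, fun k hk => Nat.find_min h hk⟩
  have hn : 1 ≤ n := by
    by_contra hn
    obtain ⟨i, hi⟩ := hQc
    have hQ0 : Q = C (Q.coeff 0) := eq_C_of_natDegree_eq_zero (by omega)
    rw [hQ0] at hi hQM
    rcases i with _ | i
    · rw [Ideal.mem_comap, aeval_C] at hQM
      simp only [coeff_C_zero] at hi
      exact hi hQM
    · exact hi (by rw [coeff_C_ne_zero (by omega)]; exact p0.zero_mem)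
  have hlc : Q.leadingCoeff ∉ p0 := fun hlc => by
    obtain ⟨i, hi⟩ := hQc
    have hin : i ≠ n := fun e => hi (by rwa [e, ← hQn])
    refine hmin Q.eraseLead.natDegree ?_ ⟨_, rfl, ?_, i, ?_⟩
    · have := eraseLead_natDegree_le Q; omega
    · rw [← self_sub_C_mul_X_pow]
      refine M.sub_mem hQM (M.mul_mem_right _ ?_)
      rw [Ideal.mem_comap, aeval_C]
      exact hlc
    · rwa [eraseLead_coeff_of_ne i (hQn.symm ▸ hin)]
  let c := Q.leadingCoeff
  let y : K := algebraMap R K c * x
  let T := Algebra.adjoin R ({y} : Set K)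
  have hTS : T ≤ S := Algebra.adjoin_le (by
    rintro z rfl
    exact mul_mem (S.algebraMap_mem c) (Algebra.self_mem_adjoin_singleton R x))
  letI : Algebra T S := (Subalgebra.inclusion hTS).toRingHom.toAlgebra
  haveI : IsScalarTower T S K := IsScalarTower.of_algebraMap_eq fun t => rfl
  refine locFin_of_away (T := T) m (algebraMap R T c) (fun h => hlc h) (fun s => ?_) ?_
  · obtain ⟨k, hk⟩ := exists_pow_mul_mem (V := T) c x (Algebra.self_mem_adjoin_singleton R y) s.2
    exact ⟨k, ⟨_, hk⟩, rfl⟩
  · haveI : (m.comap (algebraMap T S)).IsPrime := Ideal.IsPrime.comap _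
    refine locFin_of_monic hN y T rfl _ Q.integralNormalization
      (monic_integralNormalization (by rintro rfl; simp at hQn; omega)) fun h => ?_
    rw [Ideal.mem_comap]
    have e : algebraMap T S (aeval (⟨y, h⟩ : T) Q.integralNormalization) =
        algebraMap R S c ^ (Q.natDegree - 1) * aeval (gen x) Q := by
      show Subalgebra.inclusion hTS (aeval (⟨y, h⟩ : T) Q.integralNormalization) = _
      rw [← aeval_algHom_apply, show Subalgebra.inclusion hTS ⟨y, h⟩ = algebraMap R S c * gen x from
        Subtype.ext rfl, aeval_def, aeval_def]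
      exact integralNormalization_eval₂_leadingCoeff_mul (by omega) _ _
    rw [e]
    exact m.mul_mem_left _ hQM

/-- `R[x]` is N-1 for a normal Nagata domain `R` and `x` in its fraction field. -/
theorem finite_integralClosure_adjoin (hN : CAlg.IsNagata R) (x : K) :
    Module.Finite (Algebra.adjoin R ({x} : Set K))
      (integralClosure (Algebra.adjoin R ({x} : Set K)) K) := by
  haveI := hN.1
  let S := Algebra.adjoin R ({x} : Set K)
  haveI : Algebra.FiniteType R S := (Subalgebra.fg_iff_finiteType _).1 ⟨{x}, by simp [S]⟩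
  haveI : IsNoetherianRing S := Algebra.FiniteType.isNoetherianRing R S
  obtain ⟨a, b, hb, hab⟩ := IsFractionRing.div_surjective R x
  have hb0 : algebraMap R K b ≠ 0 :=
    (map_ne_zero_iff _ (IsFractionRing.injective R K)).2 (nonZeroDivisors.ne_zero hb)
  refine Module.Finite.iff_fg.2 (RegLocus.fg_of_local_generic (algebraMap R S b) ?_
    (Subalgebra.toSubmodule (integralClosure S K))
    ⟨Submodule.span S {1}, ?_, Submodule.fg_span_singleton _, fun z hz => ?_⟩ fun m hm => ?_)
  · intro u v h
    simp only [algebraMap_smul, Algebra.smul_def] at h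
    exact mul_left_cancel₀ hb0 h
  · rw [Submodule.span_singleton_le_iff_mem]
    exact isIntegral_one
  · obtain ⟨k, hk⟩ := exists_pow_mul_integral (T := R) (S := S) b (fun s => by
      obtain ⟨k, hk⟩ := exists_pow_mul_mem (V := ⊥) b x
        (Algebra.mem_bot.2 ⟨a, by rw [← hab]; field_simp⟩) s.2
      obtain ⟨t, ht⟩ := Algebra.mem_bot.1 hk
      exact ⟨k, t, ht.symm⟩) hz
    obtain ⟨r, hr⟩ := IsIntegrallyClosed.isIntegral_iff.1 hk
    refine ⟨k, Submodule.mem_span_singleton.2 ⟨algebraMap R S r, ?_⟩⟩
    rw [algebraMap_smul, Algebra.smul_def, mul_one, ← map_pow, algebraMap_smul, Algebra.smul_def,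
      map_pow, hr]
  · haveI := hm
    obtain ⟨G, hG, hGz⟩ := locFin_of_isMaximal hN x m
    exact ⟨Submodule.span S (G : Set K), Submodule.span_le.2 fun g hg => hG g hg, ⟨G, rfl⟩, hGz⟩

end Birational

/-- A monogenic domain over a Nagata domain is N-2. -/
theorem isN2_of_adjoin_singleton {R : Type u} [CommRing R] [IsDomain R] (hN : CAlg.IsNagata R)
    {D : Type u} [CommRing D] [IsDomain D] [Algebra R D]
    (hinj : Function.Injective (algebraMap R D)) (x : D)
    (hx : Algebra.adjoin R ({x} : Set D) = ⊤) : CAlg.IsN2 D := by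
  haveI := hN.1
  by_cases hal : Function.Injective (aeval x : R[X] →ₐ[R] D)
  · have hs : Function.Surjective (aeval x : R[X] →ₐ[R] D) := fun d => by
      have : d ∈ Algebra.adjoin R ({x} : Set D) := hx ▸ Algebra.mem_top
      rwa [Algebra.adjoin_singleton_eq_range_aeval] at this
    exact N2Poly.isN2_of_ringEquiv (AlgEquiv.ofBijective _ ⟨hal, hs⟩).toRingEquiv
      (N2Poly.isN2_polynomial R (isN2_of_isNagata hN))
  obtain ⟨P, hPx, hP0⟩ : ∃ P : R[X], aeval x P = 0 ∧ P ≠ 0 := by
    rw [injective_iff_map_eq_zero] at hal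
    simpa using hal
  intro L _ _ _ _ hfin
  haveI : FaithfulSMul R (FractionRing D) := (faithfulSMul_iff_algebraMap_injective R _).2 (by
    rw [IsScalarTower.algebraMap_eq R D (FractionRing D)]
    exact (IsFractionRing.injective D (FractionRing D)).comp hinj)
  letI : Algebra (FractionRing R) (FractionRing D) := FractionRing.liftAlgebra R (FractionRing D)
  haveI : FiniteDimensional (FractionRing R) (FractionRing D) := by
    let xF := algebraMap D (FractionRing D) x
    have halg : IsIntegral (FractionRing R) xF := by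
      refine IsAlgebraic.isIntegral ⟨P.map (algebraMap R (FractionRing R)),
        (Polynomial.map_ne_zero_iff (IsFractionRing.injective R _)).2 hP0, ?_⟩
      rw [aeval_map_algebraMap, aeval_algebraMap_apply, hPx, map_zero]
    let E : IntermediateField (FractionRing R) (FractionRing D) :=
      IntermediateField.adjoin _ ({xF} : Set (FractionRing D))
    haveI : FiniteDimensional (FractionRing R) E := IntermediateField.adjoin.finiteDimensional halg
    have hD : ∀ d : D, algebraMap D (FractionRing D) d ∈ E := by
      intro d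
      have hd : d ∈ Algebra.adjoin R ({x} : Set D) := hx ▸ Algebra.mem_top
      induction hd using Algebra.adjoin_induction with
      | mem y hy =>
        rw [Set.mem_singleton_iff.1 hy]
        exact IntermediateField.subset_adjoin _ _ (Set.mem_singleton _)
      | algebraMap r =>
        rw [← IsScalarTower.algebraMap_apply,
          IsScalarTower.algebraMap_apply R (FractionRing R) (FractionRing D)]
        exact E.algebraMap_mem _
      | add a b _ _ ha hb => rw [map_add]; exact add_mem ha hb
      | mul a b _ _ ha hb => rw [map_mul]; exact mul_mem ha hb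
    have hE : E = ⊤ := by
      refine eq_top_iff.2 fun z _ => ?_
      obtain ⟨a, b, -, rfl⟩ := IsFractionRing.div_surjective D z
      exact div_mem (hD a) (hD b)
    haveI : FiniteDimensional (FractionRing R) (⊤ : IntermediateField (FractionRing R) (FractionRing D)) :=
      hE ▸ ‹FiniteDimensional (FractionRing R) E›
    exact Module.Finite.equiv
      (IntermediateField.topEquiv (F := FractionRing R) (E := FractionRing D)).toLinearEquiv
  letI : Algebra R L := ((algebraMap D L).comp (algebraMap R D)).toAlgebra
  haveI : IsScalarTower R D L := IsScalarTower.of_algebraMap_eq fun _ => rfl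
  letI : Algebra (FractionRing R) L :=
    ((algebraMap (FractionRing D) L).comp (algebraMap (FractionRing R) (FractionRing D))).toAlgebra
  haveI : IsScalarTower (FractionRing R) (FractionRing D) L := IsScalarTower.of_algebraMap_eq fun _ => rfl
  haveI : IsScalarTower R (FractionRing R) L := IsScalarTower.of_algebraMap_eq fun a => by
    show algebraMap D L (algebraMap R D a) = algebraMap (FractionRing D) L
      (algebraMap (FractionRing R) (FractionRing D) (algebraMap R (FractionRing R) a))
    rw [← IsScalarTower.algebraMap_apply R (FractionRing R) (FractionRing D),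
      IsScalarTower.algebraMap_apply R D (FractionRing D),
      ← IsScalarTower.algebraMap_apply D (FractionRing D) L]
  haveI : FiniteDimensional (FractionRing R) L := Module.Finite.trans (FractionRing D) L
  haveI : Module.Finite R (integralClosure R L) :=
    N2Lib.finite_integralClosure_of_isN2 (isN2_of_isNagata hN) (FractionRing R) L
  let R' := integralClosure R L
  have hN' : CAlg.IsNagata R' := isNagata_of_finite hN
  haveI : IsFractionRing R' L := integralClosure.isFractionRing_of_finite_extension (FractionRing R) L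
  haveI : IsIntegrallyClosed R' := integralClosure.isIntegrallyClosedOfFiniteExtension (FractionRing R)
  let xL := algebraMap D L x
  let U := Algebra.adjoin R' ({xL} : Set L)
  haveI hU := finite_integralClosure_adjoin hN' xL
  have hmem : ∀ d : D, algebraMap D L d ∈ U := by
    intro d
    have hd : d ∈ Algebra.adjoin R ({x} : Set D) := hx ▸ Algebra.mem_top
    induction hd using Algebra.adjoin_induction with
    | mem y hy => rw [Set.mem_singleton_iff.1 hy]; exact Algebra.self_mem_adjoin_singleton R' xL
    | algebraMap r => exact U.algebraMap_mem (algebraMap R R' r)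
    | add a b _ _ ha hb => rw [map_add]; exact add_mem ha hb
    | mul a b _ _ ha hb => rw [map_mul]; exact mul_mem ha hb
  letI : Algebra D U := ((algebraMap D L).codRestrict U.toSubring hmem).toAlgebra
  haveI : IsScalarTower D U L := IsScalarTower.of_algebraMap_eq fun _ => rfl
  haveI : IsScalarTower R D U := IsScalarTower.of_algebraMap_eq fun r => Subtype.ext rfl
  haveI : Algebra.FiniteType R' U := (Subalgebra.fg_iff_finiteType _).1 ⟨{xL}, by simp [U]⟩
  haveI : Algebra.FiniteType R U := Algebra.FiniteType.trans (S := R') inferInstance inferInstance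
  haveI : Algebra.FiniteType D U := Algebra.FiniteType.of_restrictScalars_finiteType R D U
  haveI : Algebra.IsIntegral D U := ⟨fun s => by
    refine (isIntegral_algHom_iff (IsScalarTower.toAlgHom D U L) Subtype.val_injective).1 ?_
    show IsIntegral D (s : L)
    refine Algebra.adjoin_induction (p := fun z _ => IsIntegral D z) ?_ (fun r => ?_)
      (fun _ _ _ _ => IsIntegral.add) (fun _ _ _ _ => IsIntegral.mul) s.2
    · rintro z rfl
      exact isIntegral_algebraMap
    · exact r.2.tower_top⟩
  haveI : Module.Finite D U := Algebra.IsIntegral.finite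
  haveI : Module.Finite D (integralClosure U L) := Module.Finite.trans U _
  exact Module.Finite.of_surjective
    ({ toFun := fun z => ⟨z.1, isIntegral_trans z.1 z.2⟩
       map_add' := fun _ _ => rfl
       map_smul' := fun _ _ => rfl } : integralClosure U L →ₗ[D] integralClosure D L)
    fun z => ⟨⟨z.1, z.2.tower_top⟩, rfl⟩

/-- Polynomial rings over Nagata rings are Nagata. -/
theorem isNagata_polynomial {R : Type u} [CommRing R] (hN : CAlg.IsNagata R) :
    CAlg.IsNagata R[X] := by
  haveI := hN.1
  refine ⟨inferInstance, fun q hq => ?_⟩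
  let p := q.comap (C : R →+* R[X])
  let f : R ⧸ p →+* R[X] ⧸ q := Ideal.quotientMap q C le_rfl
  letI : Algebra (R ⧸ p) (R[X] ⧸ q) := f.toAlgebra
  refine isN2_of_adjoin_singleton (isNagata_of_surjective (Ideal.Quotient.mk p) Ideal.Quotient.mk_surjective hN)
    (Ideal.quotientMap_injective (f := (C : R →+* R[X]))) (Ideal.Quotient.mk q X) (eq_top_iff.2 fun d hd => ?_)
  clear hd
  obtain ⟨P, rfl⟩ := Ideal.Quotient.mk_surjective d
  induction P using Polynomial.induction_on' with
  | add a b ha hb => rw [map_add]; exact add_mem ha hb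
  | monomial n r =>
    rw [← C_mul_X_pow_eq_monomial, map_mul, map_pow]
    exact mul_mem (show Ideal.Quotient.mk q (C r) ∈ _ from
      Subalgebra.algebraMap_mem (Algebra.adjoin (R ⧸ p) {Ideal.Quotient.mk q (X : R[X])})
        (Ideal.Quotient.mk p r)) (pow_mem (Algebra.self_mem_adjoin_singleton _ _) n)

/-- Multivariate polynomial rings over Nagata rings are Nagata. -/
theorem isNagata_mvPolynomial_fin {R : Type u} [CommRing R] (hN : CAlg.IsNagata R) :
    ∀ n : ℕ, CAlg.IsNagata (MvPolynomial (Fin n) R)
  | 0 => isNagata_of_surjective (MvPolynomial.isEmptyAlgEquiv R (Fin 0)).symm.toRingEquiv.toRingHom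
      (MvPolynomial.isEmptyAlgEquiv R (Fin 0)).symm.surjective hN
  | n + 1 => isNagata_of_surjective (MvPolynomial.finSuccEquiv R n).symm.toRingEquiv.toRingHom
      (MvPolynomial.finSuccEquiv R n).symm.surjective
      (isNagata_polynomial (isNagata_mvPolynomial_fin hN n))

/-- Finite type algebras over Nagata rings are Nagata. -/
theorem isNagata_of_finiteType {R : Type u} [CommRing R] (hN : CAlg.IsNagata R) (S : Type u)
    [CommRing S] [Algebra R S] [Algebra.FiniteType R S] : CAlg.IsNagata S := by
  obtain ⟨n, f, hf⟩ := Algebra.FiniteType.iff_quotient_mvPolynomial''.1 ‹Algebra.FiniteType R S›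
  exact isNagata_of_surjective f.toRingHom hf (isNagata_mvPolynomial_fin hN n)

/-- Nagata is Noetherian and universally Japanese. -/
theorem isNagata_iff {R : Type u} [CommRing R] :
    CAlg.IsNagata R ↔ (IsNoetherianRing R ∧ CAlg.IsUniversallyJapanese R) := by
  refine ⟨fun h => ⟨h.1, fun S _ _ _ hS => isN2_of_isNagata (@isNagata_of_finiteType R _ h S _ _ hS)⟩,
    fun h => ⟨h.1, fun p hp => h.2 (R ⧸ p) inferInstance⟩⟩

end Groth.Agent.CAlgNagata
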