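import Groth.Agent.CAlgNagata.Main
import Groth.Agent.S6333

/-!
# Integral closure of a Nagata ring in a reduced algebra of finite type
-/

universe u

namespace Groth.Agent.CAlgNagata

/-- The integral closure of a Nagata ring in a finite type domain is finite. -/
theorem finite_integralClosure_domain {R : Type u} [CommRing R] (hN : CAlg.IsNagata R) (D : Type u)
    [CommRing D] [IsDomain D] [Algebra R D] [Algebra.FiniteType R D] :
    Module.Finite R (integralClosure R D) := by
  haveI := hN.1
  let p := RingHom.ker (algebraMap R D)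
  haveI : p.IsPrime := RingHom.ker_isPrime _
  letI : Algebra (R ⧸ p) D :=
    (Ideal.Quotient.lift p (algebraMap R D) fun a ha => ha).toAlgebra
  haveI : IsScalarTower R (R ⧸ p) D := IsScalarTower.of_algebraMap_eq fun r => rfl
  haveI : Algebra.FiniteType (R ⧸ p) D := Algebra.FiniteType.of_restrictScalars_finiteType R _ D
  let F := FractionRing D
  have hinj : Function.Injective (algebraMap (R ⧸ p) D) := (injective_iff_map_eq_zero _).2 fun a ha => by
    obtain ⟨r, rfl⟩ := Ideal.Quotient.mk_surjective a
    exact Ideal.Quotient.eq_zero_iff_mem.2 (RingHom.mem_ker.2 ha)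
  haveI : FaithfulSMul (R ⧸ p) F := (faithfulSMul_iff_algebraMap_injective _ _).2 (by
    rw [IsScalarTower.algebraMap_eq (R ⧸ p) D F]
    exact (IsFractionRing.injective D F).comp hinj)
  letI : Algebra (FractionRing (R ⧸ p)) F := FractionRing.liftAlgebra (R ⧸ p) F
  haveI : Algebra.EssFiniteType D F := Algebra.EssFiniteType.of_isLocalization F (nonZeroDivisors D)
  haveI : Algebra.EssFiniteType (R ⧸ p) F := Algebra.EssFiniteType.comp (R ⧸ p) D F
  haveI : Algebra.EssFiniteType (FractionRing (R ⧸ p)) F :=
    Algebra.EssFiniteType.of_comp (R ⧸ p) (FractionRing (R ⧸ p)) F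
  let L := algebraicClosure (FractionRing (R ⧸ p)) F
  haveI : FiniteDimensional (FractionRing (R ⧸ p)) L :=
    S6333.result (IntermediateField.fg_top_iff.2 inferInstance)
  haveI : Module.Finite (R ⧸ p) (integralClosure (R ⧸ p) L) :=
    N2Lib.finite_integralClosure_of_isN2 (hN.2 p) (FractionRing (R ⧸ p)) L
  have hmem : ∀ z : integralClosure (R ⧸ p) D, algebraMap D F z.1 ∈ L ∧
      IsIntegral (R ⧸ p) (algebraMap D F z.1) := fun z => by
    have h : IsIntegral (R ⧸ p) (algebraMap D F z.1) :=
      IsIntegral.map (IsScalarTower.toAlgHom (R ⧸ p) D F) z.2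
    exact ⟨mem_algebraicClosure_iff.2 h.tower_top.isAlgebraic, h⟩
  let φ : integralClosure (R ⧸ p) D →ₗ[R ⧸ p] integralClosure (R ⧸ p) L :=
    { toFun := fun z => ⟨⟨algebraMap D F z.1, (hmem z).1⟩,
        (isIntegral_algHom_iff ((L.val).restrictScalars (R ⧸ p)) L.val.injective).1 (hmem z).2⟩
      map_add' := fun a b => Subtype.ext (Subtype.ext (map_add (algebraMap D F) a.1 b.1))
      map_smul' := fun r a => Subtype.ext (Subtype.ext (by
        show algebraMap D F (r • a.1) = r • algebraMap D F a.1
        exact map_smul (IsScalarTower.toAlgHom (R ⧸ p) D F) r a.1)) }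
  haveI : Module.Finite (R ⧸ p) (integralClosure (R ⧸ p) D) :=
    Module.Finite.of_injective φ fun a b h => Subtype.ext (IsFractionRing.injective D F
      (congrArg (fun z : integralClosure (R ⧸ p) L => (z.1 : F)) h))
  haveI : Module.Finite R (integralClosure (R ⧸ p) D) := Module.Finite.trans (R ⧸ p) _
  let ψ : integralClosure R D →ₗ[R] integralClosure (R ⧸ p) D :=
    { toFun := fun z => ⟨z.1, IsIntegral.tower_top z.2⟩, map_add' := fun _ _ => rfl,
      map_smul' := fun _ _ => rfl }
  exact Module.Finite.of_injective ψ fun a b h =>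
    Subtype.ext (congrArg (fun z : integralClosure (R ⧸ p) D => z.1) h)

/-- The integral closure of a Nagata ring in a reduced algebra of finite type is finite. -/
theorem finite_integralClosure_reduced {R : Type u} [CommRing R] (hN : CAlg.IsNagata R) (S : Type u)
    [CommRing S] [IsReduced S] [Algebra R S] [Algebra.FiniteType R S] :
    Module.Finite R (integralClosure R S) := by
  haveI := hN.1
  haveI : IsNoetherianRing S := Algebra.FiniteType.isNoetherianRing R S
  let ι := {P : Ideal S // P ∈ minimalPrimes S}
  haveI : Finite ι := (minimalPrimes.finite_of_isNoetherianRing S).to_subtype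
  haveI : ∀ P : ι, P.1.IsPrime := fun P => P.2.1.1
  haveI : ∀ P : ι, Module.Finite R (integralClosure R (S ⧸ P.1)) := fun P =>
    finite_integralClosure_domain hN (S ⧸ P.1)
  let g : integralClosure R S →ₗ[R] ∀ P : ι, integralClosure R (S ⧸ P.1) :=
    LinearMap.pi fun P =>
      { toFun := fun x => ⟨Ideal.Quotient.mkₐ R P.1 x.1, (x.2 : IsIntegral R x.1).map (Ideal.Quotient.mkₐ R P.1)⟩
        map_add' := fun x y => Subtype.ext (map_add (Ideal.Quotient.mkₐ R P.1) x.1 y.1)
        map_smul' := fun c x => Subtype.ext (map_smul (Ideal.Quotient.mkₐ R P.1) c x.1) }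
  refine Module.Finite.of_injective g ((injective_iff_map_eq_zero g).2 fun x hx => Subtype.ext ?_)
  refine IsReduced.eq_zero x.1 ?_
  rw [← mem_nilradical, nilradical, ← Ideal.sInf_minimalPrimes]
  exact Submodule.mem_sInf.2 fun P hP =>
    Ideal.Quotient.eq_zero_iff_mem.1 (congrArg Subtype.val (congrFun hx ⟨P, hP⟩))

end Groth.Agent.CAlgNagata
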