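import Groth.Agent.CAlgNagata.Closed
import Groth.Agent.CAlgN2.Nagata
import Mathlib.RingTheory.Localization.AsSubring
import Mathlib.RingTheory.Adjoin.Polynomial.Basic

/-!
# Birational monogenic extensions of normal Nagata domains are analytically unramified
-/

universe u

open TensorProduct Polynomial

namespace Groth.Agent.CAlgNagata

/-- The integral closure of `S` in `L` is finitely generated near `m`. -/
def LocFin (S : Type u) [CommRing S] (m : Ideal S) (L : Type u) [CommRing L] [Algebra S L] : Prop :=
  ∃ G : Finset L, (∀ g ∈ G, IsIntegral S g) ∧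
    ∀ z : L, IsIntegral S z → ∃ s ∉ m, s • z ∈ Submodule.span S (G : Set L)

/-- Finiteness of the integral closure after localising gives `LocFin`. -/
lemma locFin_of_finite {S : Type u} [CommRing S] (m : Ideal S) [m.IsPrime] (A : Type u) [CommRing A]
    [Algebra S A] [IsLocalization.AtPrime A m] (L : Type u) [CommRing L] [Algebra S L] [Algebra A L]
    [IsScalarTower S A L] [Module.Finite A (integralClosure A L)] : LocFin S m L := by
  classical
  obtain ⟨G, hG⟩ := ‹Module.Finite A (integralClosure A L)›.fg_top
  choose c hc using fun g : integralClosure A L =>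
    IsIntegral.exists_multiple_integral_of_isLocalization (S := L) m.primeCompl (Rₘ := A) g.1 g.2
  refine ⟨G.image fun g => c g • (g : L), fun g hg => ?_, fun z hz => ?_⟩
  · obtain ⟨g, -, rfl⟩ := Finset.mem_image.1 hg
    exact hc g
  · let N := Submodule.span S ((G.image fun g => c g • (g : L) : Finset L) : Set L)
    have key : ∀ y ∈ Submodule.span A (G : Set (integralClosure A L)),
        ∃ s ∉ m, s • (y : L) ∈ N := by
      intro y hy
      induction hy using Submodule.span_induction with
      | mem y hy =>
        exact ⟨(c y).1, (c y).2, Submodule.subset_span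
          (Finset.mem_coe.2 (Finset.mem_image_of_mem (fun g => c g • (g : L)) hy))⟩
      | zero => exact ⟨1, fun h => Ideal.IsPrime.ne_top' ((Ideal.eq_top_iff_one m).2 h), by simp⟩
      | add a b _ _ ha hb =>
        obtain ⟨s, hs, ha⟩ := ha
        obtain ⟨t, ht, hb⟩ := hb
        refine ⟨s * t, fun h => ((inferInstance : m.IsPrime).mem_or_mem h).elim hs ht, ?_⟩
        rw [Subalgebra.coe_add, smul_add, mul_smul, mul_smul, smul_comm s t (a : L)]
        exact N.add_mem (N.smul_mem t ha) (N.smul_mem s hb)
      | smul a y _ hy =>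
        obtain ⟨s, hs, hy⟩ := hy
        obtain ⟨a, t, rfl⟩ := IsLocalization.exists_mk'_eq m.primeCompl a
        refine ⟨t.1 * s, fun h => ((inferInstance : m.IsPrime).mem_or_mem h).elim t.2 hs, ?_⟩
        have e : algebraMap A L (IsLocalization.mk' A a t) * algebraMap S L t.1 = algebraMap S L a := by
          rw [IsScalarTower.algebraMap_apply S A L, ← map_mul, IsLocalization.mk'_spec,
            ← IsScalarTower.algebraMap_apply]
        rw [show ((IsLocalization.mk' A a t • y : integralClosure A L) : L) =
            algebraMap A L (IsLocalization.mk' A a t) * (y : L) from Algebra.smul_def _ _]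
        rw [show (t.1 * s) • (algebraMap A L (IsLocalization.mk' A a t) * (y : L)) = a • (s • (y : L)) by
          rw [Algebra.smul_def, Algebra.smul_def, Algebra.smul_def, map_mul]
          linear_combination algebraMap S L s * (y : L) * e]
        exact N.smul_mem a hy
    exact key ⟨z, hz.tower_top⟩ (hG ▸ Submodule.mem_top)

section Red

variable {T : Type u} [CommRing T]

/-- Krull: if nilpotents are divisible by a nonzerodivisor in the radical then the ring is reduced. -/
lemma isReduced_of_nilpotent_mem_span [IsNoetherianRing T] {X : T}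
    (hinj : Function.Injective fun w : T => X * w) (hX : X ∈ Ideal.jacobson (⊥ : Ideal T))
    (h : ∀ z : T, IsNilpotent z → z ∈ Ideal.span {X}) : IsReduced T := by
  refine ⟨fun z hz => ?_⟩
  have hmem : ∀ n : ℕ, ∃ z', IsNilpotent z' ∧ z = X ^ n * z' := by
    intro n
    induction n with
    | zero => exact ⟨z, hz, by simp⟩
    | succ n ih =>
      obtain ⟨z', hz', e⟩ := ih
      obtain ⟨z₁, h₁⟩ := Ideal.mem_span_singleton'.1 (h z' hz')
      refine ⟨z₁, ?_, by rw [e, pow_succ, mul_assoc, mul_comm X, h₁]⟩
      obtain ⟨k, hk⟩ := hz'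
      have hinjk : Function.Injective fun w : T => X ^ k * w := by
        clear hk
        induction k with
        | zero => intro a b hab; simpa using hab
        | succ k ih => intro a b hab; exact hinj (ih (by simpa [pow_succ, mul_assoc] using hab))
      exact ⟨k, hinjk (by simpa [← mul_pow, mul_comm X, h₁] using hk)⟩
  have := Ideal.iInf_pow_smul_eq_bot_of_le_jacobson (M := T) _
    ((Ideal.span_singleton_le_iff_mem _).2 hX)
  rw [← Submodule.mem_bot T, ← this, Submodule.mem_iInf]
  intro n
  obtain ⟨z', -, e⟩ := hmem n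
  rw [smul_eq_mul, Ideal.mul_top, e]
  exact Ideal.mul_mem_right _ _ (Ideal.pow_mem_pow (Ideal.mem_span_singleton_self _) n)

/-- A quotient of a Nagata ring of a local ring stays reduced in the completion. -/
lemma isReduced_tensor_quotient {A B : Type u} [CommRing A] [IsLocalRing A] [CommRing B]
    [Algebra A B] [Module.Flat A B] [IsNoetherianRing B] (p : Ideal A) [p.IsPrime]
    (hN : CAlg.IsNagata (A ⧸ p))
    (hjac : ∀ r ∈ IsLocalRing.maximalIdeal A, algebraMap A B r ∈ Ideal.jacobson (⊥ : Ideal B))
    (hres : ∀ b : B, ∃ r : A,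
      b - algebraMap A B r ∈ (IsLocalRing.maximalIdeal A).map (algebraMap A B)) :
    IsReduced (B ⊗[A] (A ⧸ p)) := by
  haveI : IsLocalRing (A ⧸ p) :=
    IsLocalRing.of_surjective' (Ideal.Quotient.mk p) Ideal.Quotient.mk_surjective
  let B' := (A ⧸ p) ⊗[A] B
  let f : B →ₐ[A] B' := Algebra.TensorProduct.includeRight
  have hf : Function.Surjective f := by
    intro w
    induction w using TensorProduct.induction_on with
    | zero => exact ⟨0, map_zero f⟩
    | tmul c b =>
      obtain ⟨a, rfl⟩ := Ideal.Quotient.mk_surjective c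
      refine ⟨a • b, ?_⟩
      show (1 : A ⧸ p) ⊗ₜ[A] (a • b) = Ideal.Quotient.mk p a ⊗ₜ[A] b
      rw [← TensorProduct.smul_tmul, Algebra.smul_def, mul_one, Ideal.Quotient.algebraMap_eq]
    | add a b ha hb =>
      obtain ⟨ca, rfl⟩ := ha
      obtain ⟨cb, rfl⟩ := hb
      exact ⟨ca + cb, map_add f ca cb⟩
  haveI : IsNoetherianRing B' := isNoetherianRing_of_surjective B B' f.toRingHom hf
  have hmax : (IsLocalRing.maximalIdeal (A ⧸ p)).comap (Ideal.Quotient.mk p) =
      IsLocalRing.maximalIdeal A :=
    IsLocalRing.eq_maximalIdeal (Ideal.comap_isMaximal_of_surjective _ Ideal.Quotient.mk_surjective)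
  have hcomm : ∀ a : A, f (algebraMap A B a) = algebraMap (A ⧸ p) B' (Ideal.Quotient.mk p a) :=
    fun a => by
      rw [f.commutes]
      exact IsScalarTower.algebraMap_apply A (A ⧸ p) B' a
  haveI : IsReduced (B' ⊗[A ⧸ p] (A ⧸ p)) := by
    refine CAlgN2.isReduced_tensor_of_nagata hN (fun c hc => ?_) (fun w => ?_) (A ⧸ p) inferInstance
    · obtain ⟨a, rfl⟩ := Ideal.Quotient.mk_surjective c
      have ha : a ∈ IsLocalRing.maximalIdeal A := hmax ▸ hc
      refine Ideal.mem_sInf.2 fun {J} hJ => ?_
      haveI : J.IsMaximal := hJ.2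
      haveI : (J.comap f.toRingHom).IsMaximal := Ideal.comap_isMaximal_of_surjective _ hf
      have h1 : algebraMap A B a ∈ J.comap f.toRingHom :=
        Ideal.mem_sInf.1 (hjac a ha) ⟨bot_le, inferInstance⟩
      rw [← hcomm]
      exact h1
    · obtain ⟨b, rfl⟩ := hf w
      obtain ⟨r, hr⟩ := hres b
      refine ⟨Ideal.Quotient.mk p r, ?_⟩
      have h1 := Ideal.mem_map_of_mem f.toRingHom hr
      rw [Ideal.map_map] at h1
      rw [← hcomm, ← map_sub]
      refine (?_ : Ideal.map (f.toRingHom.comp (algebraMap A B)) (IsLocalRing.maximalIdeal A) ≤ _) h1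
      rw [show f.toRingHom.comp (algebraMap A B) =
        (algebraMap (A ⧸ p) B').comp (Ideal.Quotient.mk p) from RingHom.ext hcomm, ← Ideal.map_map]
      exact Ideal.map_mono (Ideal.map_le_iff_le_comap.2 hmax.ge)
  haveI : IsReduced B' := isReduced_of_injective
    (Algebra.TensorProduct.rid (A ⧸ p) (A ⧸ p) B').symm
    (Algebra.TensorProduct.rid (A ⧸ p) (A ⧸ p) B').symm.injective
  exact isReduced_of_injective (Algebra.TensorProduct.comm A B (A ⧸ p))
    (Algebra.TensorProduct.comm A B (A ⧸ p)).injective

end Red

section Birational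

variable {R : Type u} [CommRing R] [IsDomain R] {K : Type u} [Field K] [Algebra R K]
  [IsFractionRing R K]

/-- In a normal domain, a relation with constant term `d` gives `x v + d = 0`. -/
lemma exists_linear_relation [IsIntegrallyClosed R] (x : K) (Q : R[X]) (h : aeval x Q = 0) :
    ∃ v : R, x * algebraMap R K v + algebraMap R K (Q.coeff 0) = 0 := by
  have hinj := IsFractionRing.injective R K
  generalize hn : Q.natDegree = n
  induction n using Nat.strong_induction_on generalizing Q with
  | _ n ih =>
    rcases Nat.lt_or_ge n 2 with hlt | hge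
    · refine ⟨Q.coeff 1, ?_⟩
      rw [Polynomial.eq_X_add_C_of_natDegree_le_one (show Q.natDegree ≤ 1 by omega)] at h
      simpa [mul_comm x] using h
    · have hint : IsIntegral R (algebraMap R K Q.leadingCoeff * x) := by
        refine ⟨Q.integralNormalization, monic_integralNormalization ?_, ?_⟩
        · rintro rfl; simp at hn; omega
        · exact integralNormalization_eval₂_eq_zero (algebraMap R K) h
            fun r hr => (map_eq_zero_iff _ hinj).1 hr
      obtain ⟨w, hw⟩ := IsIntegrallyClosed.isIntegral_iff.1 hint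
      let Q' := Q.eraseLead + C w * X ^ (n - 1)
      have h0 : Q'.coeff 0 = Q.coeff 0 := by
        simp only [Q', coeff_add, coeff_C_mul, coeff_X_pow, show ¬(0 = n - 1) by omega, if_false,
          mul_zero, add_zero]
        exact eraseLead_coeff_of_ne 0 (by omega)
      have hdeg : Q'.natDegree < n := by
        refine lt_of_le_of_lt (natDegree_add_le _ _) (max_lt ?_ ?_)
        · have := eraseLead_natDegree_le Q; omega
        · exact lt_of_le_of_lt (natDegree_C_mul_X_pow_le _ _) (by omega)
      have h' : aeval x Q' = 0 := by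
        rw [← h]
        conv_rhs => rw [← eraseLead_add_C_mul_X_pow Q]
        simp only [Q', map_add, map_mul, aeval_C, map_pow, aeval_X, hn, hw]
        obtain ⟨k, rfl⟩ : ∃ k, n = k + 1 := ⟨n - 1, by omega⟩
        rw [Nat.add_sub_cancel]
        ring
      rw [← h0]
      exact ih _ hdeg Q' h' rfl

variable (x : K)

/-- The element `x` of `R[x]`. -/
noncomputable abbrev gen : Algebra.adjoin R ({x} : Set K) := ⟨x, Algebra.self_mem_adjoin_singleton R x⟩

lemma exists_decomp (s : Algebra.adjoin R ({x} : Set K)) :
    ∃ (r : R) (g : Algebra.adjoin R ({x} : Set K)),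
      s = algebraMap R (Algebra.adjoin R ({x} : Set K)) r + gen x * g := by
  have hs := s.2
  simp only [Algebra.adjoin_singleton_eq_range_aeval, AlgHom.mem_range] at hs
  obtain ⟨P, hP⟩ := hs
  refine ⟨P.coeff 0, ⟨aeval x P.divX, Polynomial.aeval_mem_adjoin_singleton R x⟩, Subtype.ext ?_⟩
  show s.1 = algebraMap R K (P.coeff 0) + x * aeval x P.divX
  rw [← hP]
  have e := congrArg (aeval x) (X_mul_divX_add P)
  rw [map_add, map_mul, aeval_X, aeval_C] at e
  linear_combination -e

/-- `R ∩ x R[x] = R ∩ x R` for a normal domain `R`. -/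
lemma exists_of_eq_gen_mul [IsIntegrallyClosed R] {r : R} {h : Algebra.adjoin R ({x} : Set K)}
    (e : algebraMap R (Algebra.adjoin R ({x} : Set K)) r = gen x * h) :
    ∃ v : R, algebraMap R K r = x * algebraMap R K v := by
  have hh := h.2
  simp only [Algebra.adjoin_singleton_eq_range_aeval, AlgHom.mem_range] at hh
  obtain ⟨P, hP⟩ := hh
  have e' : algebraMap R K r = x * aeval x P := by
    rw [hP]; exact congrArg Subtype.val e
  obtain ⟨v, hv⟩ := exists_linear_relation x (X * P - C r) (by simp [e'])
  refine ⟨v, ?_⟩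
  simp at hv
  linear_combination -hv

variable [IsIntegrallyClosed R] (m : Ideal (Algebra.adjoin R ({x} : Set K))) [m.IsPrime]
  (A : Type u) [CommRing A] [Algebra (Algebra.adjoin R ({x} : Set K)) A] [Algebra R A]
  [IsScalarTower R (Algebra.adjoin R ({x} : Set K)) A] [IsLocalization.AtPrime A m]

include m in
omit [IsIntegrallyClosed R] in
lemma injective_toLocal : Function.Injective (algebraMap (Algebra.adjoin R ({x} : Set K)) A) :=
  IsLocalization.injective A (Ideal.primeCompl_le_nonZeroDivisors m)

/-- Divisibility by `x` of elements of `R` in the localisation. -/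
lemma dvd_iff_exists (hxm : gen x ∈ m) {r : R} :
    algebraMap (Algebra.adjoin R ({x} : Set K)) A (gen x) ∣ algebraMap R A r ↔
      ∃ u ∉ m.comap (algebraMap R (Algebra.adjoin R ({x} : Set K))), ∃ v,
        algebraMap R K (u * r) = x * algebraMap R K v := by
  constructor
  · rintro ⟨q, hq⟩
    obtain ⟨g, t, rfl⟩ := IsLocalization.exists_mk'_eq m.primeCompl q
    obtain ⟨u, h, ht⟩ := exists_decomp x t.1
    have h1 : algebraMap R (Algebra.adjoin R ({x} : Set K)) r * t.1 = gen x * g := by
      apply injective_toLocal x m A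
      rw [map_mul, map_mul, ← IsScalarTower.algebraMap_apply, hq, mul_assoc,
        IsLocalization.mk'_spec]
    refine ⟨u, fun hu => t.2 (ht ▸ m.add_mem hu (m.mul_mem_right _ hxm)),
      exists_of_eq_gen_mul x (h := g - h * algebraMap R _ r) ?_⟩
    rw [map_mul, mul_sub, ← h1, ht]
    ring
  · rintro ⟨u, hu, v, hv⟩
    have h1 : algebraMap R (Algebra.adjoin R ({x} : Set K)) (u * r) =
        gen x * algebraMap R _ v := Subtype.ext hv
    have hunit : IsUnit (algebraMap R A u) := by
      rw [IsScalarTower.algebraMap_apply R (Algebra.adjoin R ({x} : Set K)) A]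
      exact IsLocalization.map_units A (⟨algebraMap R _ u, hu⟩ : m.primeCompl)
    rw [← hunit.dvd_mul_left, ← map_mul,
      IsScalarTower.algebraMap_apply R (Algebra.adjoin R ({x} : Set K)) A, h1, map_mul]
    exact dvd_mul_right _ _

/-- The key lemma: such localisations are analytically unramified. -/
theorem isReduced_completion [IsLocalRing A] [IsNoetherianRing A] [IsDomain A]
    (hN : CAlg.IsNagata R) (hx : x ≠ 0) (hxm : gen x ∈ m) :
    IsReduced (AdicCompletion (IsLocalRing.maximalIdeal A) A) := by
  haveI := hN.1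
  let S := Algebra.adjoin R ({x} : Set K)
  let p0 := m.comap (algebraMap R S)
  let X : A := algebraMap S A (gen x)
  have hinjS := injective_toLocal x m A
  have hgen0 : gen x ≠ 0 := fun e => hx (congrArg (fun s : S => (s : K)) e)
  have hX : X ≠ 0 := fun e => hgen0 (hinjS (by rw [map_zero]; exact e))
  have hXm : X ∈ IsLocalRing.maximalIdeal A := by
    rw [← IsLocalization.AtPrime.map_eq_maximalIdeal m A]
    exact Ideal.mem_map_of_mem _ hxm
  have hinjR : Function.Injective (algebraMap R A) := by
    rw [IsScalarTower.algebraMap_eq R S A]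
    exact hinjS.comp fun a b h => IsFractionRing.injective R K (congrArg Subtype.val h)
  let Ah := AdicCompletion (IsLocalRing.maximalIdeal A) A
  haveI := CAlgN2.faithfullyFlat_completion A
  have hjac : ∀ r ∈ IsLocalRing.maximalIdeal A,
      algebraMap A Ah r ∈ Ideal.jacobson (⊥ : Ideal Ah) := fun r hr => by
    refine IsLocalRing.maximalIdeal_le_jacobson _ ?_
    rw [AdicCompletion.maximalIdeal_eq_map]
    exact Ideal.mem_map_of_mem _ hr
  have hres : ∀ b : Ah, ∃ r : A,
      b - algebraMap A Ah r ∈ (IsLocalRing.maximalIdeal A).map (algebraMap A Ah) := fun b => by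
    obtain ⟨y, hy⟩ := (AdicCompletion.residueField_map_bijective A).2 (IsLocalRing.residue _ b)
    obtain ⟨r, rfl⟩ := IsLocalRing.residue_surjective y
    refine ⟨r, ?_⟩
    rw [← AdicCompletion.maximalIdeal_eq_map, ← IsLocalRing.residue_eq_zero_iff, map_sub, ← hy,
      IsLocalRing.ResidueField.map_residue, sub_self]
  let e := Algebra.TensorProduct.rid A A Ah
  suffices hT : IsReduced (Ah ⊗[A] A) from isReduced_of_injective e.symm e.symm.injective
  haveI : IsNoetherianRing (Ah ⊗[A] A) := isNoetherianRing_of_ringEquiv Ah e.symm.toRingEquiv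
  refine isReduced_of_nilpotent_mem_span (X := (1 : Ah) ⊗ₜ[A] X)
    (CAlgN2.one_tmul_mul_injective hX) ?_ fun z hz => ?_
  · refine Ideal.mem_sInf.2 fun {J} hJ => ?_
    haveI : J.IsMaximal := hJ.2
    haveI : (J.comap e.symm.toRingEquiv.toRingHom).IsMaximal :=
      Ideal.comap_isMaximal_of_surjective _ e.symm.surjective
    have h1 : algebraMap A Ah X ∈ J.comap e.symm.toRingEquiv.toRingHom :=
      Ideal.mem_sInf.1 (hjac X hXm) ⟨bot_le, inferInstance⟩
    have h2 : e.symm (algebraMap A Ah X) = (1 : Ah) ⊗ₜ[A] X := by
      apply e.injective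
      rw [e.apply_symm_apply, Algebra.TensorProduct.rid_tmul, Algebra.algebraMap_eq_smul_one]
    exact h2 ▸ h1
  -- the two hypotheses on associated primes
  have hdec : ∀ y : A, ∃ (r u : R) (g : A), u ∉ p0 ∧
      y * algebraMap R A u = algebraMap R A r + X * g := by
    intro y
    obtain ⟨s, t, rfl⟩ := IsLocalization.exists_mk'_eq m.primeCompl y
    obtain ⟨r, g, hs⟩ := exists_decomp x s
    obtain ⟨u, h, ht⟩ := exists_decomp x t.1
    refine ⟨r, u, algebraMap S A g - IsLocalization.mk' A s t * algebraMap S A h,
      fun hu => t.2 (ht ▸ m.add_mem hu (m.mul_mem_right _ hxm)), ?_⟩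
    have e1 := IsLocalization.mk'_spec A s t
    have e2 := congrArg (algebraMap S A) hs
    have e3 := congrArg (algebraMap S A) ht
    rw [map_add, map_mul, ← IsScalarTower.algebraMap_apply] at e2 e3
    linear_combination e1 + e2 - IsLocalization.mk' A s t * e3
  have hunit : ∀ u ∉ p0, IsUnit (algebraMap R A u) := fun u hu => by
    rw [IsScalarTower.algebraMap_apply R S A]
    exact IsLocalization.map_units A (⟨algebraMap R S u, hu⟩ : m.primeCompl)
  refine CAlgN2.nilpotent_mem_span' (B := Ah) hX ?_ ?_ hz
  · intro p _ b₀ hb hp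
    obtain ⟨r, u, g, hu, hy⟩ := hdec b₀
    have hp' : ∀ y, y ∈ p ↔ X ∣ y * algebraMap R A r := fun y => by
      rw [hp, ← (hunit u hu).dvd_mul_right, mul_assoc, hy, mul_add, mul_left_comm y X,
        dvd_add_left (dvd_mul_right _ _)]
    let p' := p.comap (algebraMap R A)
    have hmem : ∀ t : R, t ∈ p' → ∃ u ∉ p0, ∃ v, algebraMap R K (u * (t * r)) =
        x * algebraMap R K v := fun t ht => by
      have h1 := (hp' _).1 ht
      rw [← map_mul] at h1
      exact (dvd_iff_exists x m A hxm).1 h1
    obtain ⟨T, hT⟩ := IsNoetherian.noetherian p'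
    have hu0 : ∃ u0 ∉ p0, ∀ t ∈ p', ∃ v, algebraMap R K (u0 * (t * r)) = x * algebraMap R K v := by
      classical
      choose us hus hv using fun t : T => hmem t.1 (hT ▸ Submodule.subset_span t.2)
      refine ⟨∏ t : T, us t, fun hmul => ?_, fun t ht => ?_⟩
      · obtain ⟨t, -, ht⟩ := ((inferInstance : p0.IsPrime).prod_mem_iff).1 hmul
        exact hus t ht
      rw [← hT] at ht
      induction ht using Submodule.span_induction with
      | mem t ht =>
        obtain ⟨v, hv⟩ := hv ⟨t, ht⟩
        obtain ⟨c, hc⟩ := Finset.dvd_prod_of_mem us (Finset.mem_univ (⟨t, ht⟩ : T))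
        refine ⟨c * v, ?_⟩
        simp only [hc, map_mul] at hv ⊢
        linear_combination algebraMap R K c * hv
      | zero => exact ⟨0, by simp⟩
      | add a b _ _ ha hb =>
        obtain ⟨va, ha⟩ := ha
        obtain ⟨vb, hb⟩ := hb
        exact ⟨va + vb, by simp only [map_mul, map_add] at ha hb ⊢; linear_combination ha + hb⟩
      | smul c a _ ha =>
        obtain ⟨v, ha⟩ := ha
        exact ⟨c * v, by simp only [smul_eq_mul, map_mul] at ha ⊢; linear_combination algebraMap R K c * ha⟩
    obtain ⟨u0, hu0, hgen⟩ := hu0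
    obtain ⟨a, b, hb0, rfl⟩ := IsFractionRing.div_surjective R x
    have hbK : algebraMap R K b ≠ 0 :=
      (map_ne_zero_iff _ (IsFractionRing.injective R K)).2 (nonZeroDivisors.ne_zero hb0)
    have ha0 : a ≠ 0 := fun e => hx (by simp [e])
    have hchar : ∀ t, t ∈ p' ↔ a ∣ t * (u0 * r * b) := fun t => by
      constructor
      · intro ht
        obtain ⟨v, hv⟩ := hgen t ht
        refine ⟨v, IsFractionRing.injective R K ?_⟩
        simp only [map_mul] at hv ⊢
        field_simp at hv
        linear_combination hv
      · rintro ⟨v, hv⟩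
        refine (hp' _).2 ?_
        rw [← map_mul]
        refine (dvd_iff_exists _ m A hxm).2 ⟨u0, hu0, v, ?_⟩
        have := congrArg (algebraMap R K) hv
        simp only [map_mul] at this ⊢
        field_simp
        linear_combination this
    obtain ⟨w, π, hw, hπ, hπ0, hwp⟩ := CAlgN2.exists_witness ha0 (fun hd =>
      (inferInstance : p'.IsPrime).ne_top ((Ideal.eq_top_iff_one _).2 ((hchar 1).2 (by rwa [one_mul]))))
      p' hchar
    obtain ⟨n, v, hv, hav⟩ := CAlgN2.exists_pow_mul_eq p' ha0 hw hπ hwp
    obtain ⟨k, v', hv', hbv⟩ := CAlgN2.exists_pow_mul_eq p' (nonZeroDivisors.ne_zero hb0) hw hπ hwp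
    have hSK : ∀ {s s' : S}, s.1 = s'.1 → algebraMap S A s = algebraMap S A s' := fun h =>
      congrArg _ (Subtype.ext h)
    have hA : ∀ c : R, algebraMap R A c = algebraMap S A (algebraMap R S c) := fun c =>
      IsScalarTower.algebraMap_apply R S A c
    have eaK := congrArg (algebraMap R K) hav
    have ebK := congrArg (algebraMap R K) hbv
    simp only [map_mul, map_pow] at eaK ebK
    rcases lt_or_ge k n with hkn | hkn
    · obtain ⟨d, rfl⟩ : ∃ d, n = k + d + 1 := ⟨n - k - 1, by omega⟩
      let W := w * (v' * w ^ (k + d + 1))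
      have hW : W ∉ p' := fun h => by
        rcases (inferInstance : p'.IsPrime).mem_or_mem h with h | h
        · exact hw h
        rcases (inferInstance : p'.IsPrime).mem_or_mem h with h | h
        · exact hv' h
        · exact hw ((inferInstance : p'.IsPrime).mem_of_pow_mem _ h)
      refine ⟨algebraMap R A W, algebraMap R A π, hW, hπ,
        (map_ne_zero_iff _ hinjR).2 hπ0, fun y hy => ?_⟩
      obtain ⟨r', u', g', hu', hy'⟩ := hdec y
      have hr' : r' ∈ p' := by
        show algebraMap R A r' ∈ p
        rw [show algebraMap R A r' = y * algebraMap R A u' - X * g' by linear_combination -hy']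
        exact p.sub_mem (p.mul_mem_right _ hy) (p.mul_mem_right _ ((hp X).2 (dvd_mul_right _ _)))
      obtain ⟨q, hq⟩ := hwp r' hr'
      have hXW : algebraMap R A W * X = algebraMap R A (π * (π ^ d * (v * w ^ (k + 1)))) := by
        rw [hA, hA, ← map_mul]
        refine hSK ?_
        show algebraMap R K W * (algebraMap R K a / algebraMap R K b) =
          algebraMap R K (π * (π ^ d * (v * w ^ (k + 1))))
        simp only [W, map_mul, map_pow]
        rw [← mul_div_assoc, div_eq_iff hbK]
        have hπK : (algebraMap R K π) ^ k ≠ 0 :=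
          pow_ne_zero _ ((map_ne_zero_iff _ (IsFractionRing.injective R K)).2 hπ0)
        apply mul_left_cancel₀ hπK
        linear_combination (-(algebraMap R K w * algebraMap R K a * algebraMap R K w ^ (k + d + 1))) * ebK +
          (algebraMap R K b * algebraMap R K w ^ (k + 1)) * eaK
      obtain ⟨ui, hui⟩ := (hunit u' hu').exists_right_inv
      refine ⟨ui * (algebraMap R A (q * (v' * w ^ (k + d + 1))) +
        algebraMap R A (π ^ d * (v * w ^ (k + 1))) * g'), ?_⟩
      have hq' := congrArg (algebraMap R A) hq
      simp only [W, map_mul, map_pow] at hXW hq' ⊢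
      linear_combination (ui * algebraMap R A w * algebraMap R A v' * algebraMap R A w ^ (k + d + 1)) * hy' +
        ui * g' * hXW + ui * algebraMap R A v' * algebraMap R A w ^ (k + d + 1) * hq' -
        (algebraMap R A w * algebraMap R A v' * algebraMap R A w ^ (k + d + 1) * y) * hui
    · exfalso
      obtain ⟨d, rfl⟩ : ∃ d, k = n + d := ⟨k - n, by omega⟩
      have e : algebraMap R A (v * w ^ (n + d)) = X * algebraMap R A (v' * π ^ d * w ^ n) := by
        rw [hA, hA, ← map_mul]
        refine hSK ?_
        show algebraMap R K (v * w ^ (n + d)) =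
          algebraMap R K a / algebraMap R K b * algebraMap R K (v' * π ^ d * w ^ n)
        simp only [map_mul, map_pow]
        rw [div_mul_eq_mul_div, eq_div_iff hbK]
        have hπK : (algebraMap R K π) ^ n ≠ 0 :=
          pow_ne_zero _ ((map_ne_zero_iff _ (IsFractionRing.injective R K)).2 hπ0)
        apply mul_left_cancel₀ hπK
        linear_combination (algebraMap R K a * algebraMap R K w ^ n) * ebK -
          (algebraMap R K b * algebraMap R K w ^ (n + d)) * eaK
      have h1 : v * w ^ (n + d) ∈ p' := by
        show algebraMap R A (v * w ^ (n + d)) ∈ p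
        rw [e]
        exact p.mul_mem_right _ ((hp X).2 (dvd_mul_right _ _))
      rcases (inferInstance : p'.IsPrime).mem_or_mem h1 with h | h
      exacts [hv h, hw ((inferInstance : p'.IsPrime).mem_of_pow_mem _ h)]
  · intro p b₀ hpp hp hxp
    haveI := hpp
    let φ : Localization.AtPrime p0 →+* A ⧸ p :=
      IsLocalization.lift (M := p0.primeCompl) (g := (Ideal.Quotient.mk p).comp (algebraMap R A))
        fun u => (hunit u.1 u.2).map (Ideal.Quotient.mk p)
    refine isReduced_tensor_quotient p (isNagata_of_surjective φ (fun c => ?_)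
      (isNagata_localization p0.primeCompl hN)) hjac hres
    obtain ⟨y, rfl⟩ := Ideal.Quotient.mk_surjective c
    obtain ⟨r, u, g, hu, hy⟩ := hdec y
    refine ⟨IsLocalization.mk' _ r (⟨u, hu⟩ : p0.primeCompl), ?_⟩
    rw [IsLocalization.lift_mk'_spec]
    have := congrArg (Ideal.Quotient.mk p) hy
    rw [map_mul, map_add, map_mul (Ideal.Quotient.mk p) X, Ideal.Quotient.eq_zero_iff_mem.2 hxp,
      zero_mul, add_zero] at this
    show Ideal.Quotient.mk p (algebraMap R A r) =
      Ideal.Quotient.mk p (algebraMap R A u) * Ideal.Quotient.mk p y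
    rw [← this, mul_comm]

omit A in
/-- The integral closure of `R[x]` is finite near a prime containing `x`. -/
theorem locFin_of_mem (hN : CAlg.IsNagata R) (hxm : gen x ∈ m) :
    LocFin (Algebra.adjoin R ({x} : Set K)) m K := by
  haveI := hN.1
  let S := Algebra.adjoin R ({x} : Set K)
  have hle : m.primeCompl ≤ nonZeroDivisors S := Ideal.primeCompl_le_nonZeroDivisors m
  haveI : IsFractionRing S K := inferInstance
  let A := Localization.subalgebra.ofField K m.primeCompl hle
  haveI : IsLocalization.AtPrime A m := Localization.subalgebra.isLocalization_ofField K m.primeCompl hle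
  haveI : IsLocalRing A := IsLocalization.AtPrime.isLocalRing A m
  haveI : Algebra.FiniteType R S := (Subalgebra.fg_iff_finiteType _).1 ⟨{x}, by simp [S]⟩
  haveI : IsNoetherianRing S := Algebra.FiniteType.isNoetherianRing R S
  haveI : IsNoetherianRing A := IsLocalization.isNoetherianRing m.primeCompl A inferInstance
  have hN1 : CAlg.IsN1 A := by
    by_cases hx : x = 0
    · have hSR : S = ⊥ := by
        refine eq_bot_iff.2 (Algebra.adjoin_le ?_)
        rintro y rfl
        exact hx ▸ zero_mem _
      haveI : IsIntegrallyClosed S :=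
        IsIntegrallyClosed.of_equiv ((Algebra.botEquivOfInjective (IsFractionRing.injective R K)).symm.trans
          (Subalgebra.equivOfEq _ _ hSR.symm)).toRingEquiv
      haveI : IsIntegrallyClosed A :=
        isIntegrallyClosed_of_isLocalization A m.primeCompl hle
      refine N2Lib.isN1_of_finite K (Module.Finite.of_surjective (Algebra.linearMap A (integralClosure A K))
        fun z => ?_)
      obtain ⟨w, hw⟩ := IsIntegrallyClosed.isIntegral_iff.1 z.2
      exact ⟨w, Subtype.ext hw⟩
    · haveI := isReduced_completion x m A hN hx hxm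
      exact CAlgN2.isN1_of_isReduced_completion
  haveI := N2Lib.finite_integralClosure_of_isN1 hN1 K
  exact locFin_of_finite m A K

end Birational

end Groth.Agent.CAlgNagata
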